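/-
The Reynolds operator of an action on an affine scheme, from a normalised invariant functional on the group.
-/
import Groth.Prelude.Def_W4bk4git07Quot
import Groth.Agent.GrpSchLib.Kunneth
import Groth.Agent.SolvGrp.Closed

set_option backward.isDefEq.respectTransparency false
set_option backward.isDefEq.respectTransparency.types false
set_option linter.style.haveILetI false

universe u

open CategoryTheory Limits MonoidalCategory CartesianMonoidalCategory MonObj AlgebraicGeometry
open TensorProduct

namespace Groth.Agent.GITAff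

open GrpSchLib GrpSchLib.Kunneth

variable {k : Type u} [Field k]

theorem isAffine_tensor (X Y : Over (Spec (CommRingCat.of k))) [IsAffine X.left] [IsAffine Y.left] :
    IsAffine (X ⊗ Y).left :=
  inferInstanceAs (IsAffine (pullback X.hom Y.hom))

variable {G X X' Y : Over (Spec (CommRingCat.of k))} [IsAffine G.left] [IsAffine X.left] [IsAffine X'.left]
  [IsAffine Y.left]

variable (G X) in
/-- Functions on a product with the group. -/
noncomputable def prodEquiv : (Fn G ⊗[k] Fn X) ≃ₗ[k] Fn (G ⊗ X) :=
  LinearEquiv.ofBijective (toProd G X).toLinearMap (toProd_bijective G X)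

theorem prodEquiv_tmul (g : Fn G) (y : Fn X) :
    prodEquiv G X (g ⊗ₜ[k] y) = ev (fst G X) g * ev (snd G X) y :=
  Algebra.TensorProduct.lift_tmul _ _ (fun _ _ => .all _ _) _ _

/-- Integration of a function along the group. -/
noncomputable def sl (β : Fn G →ₗ[k] k) (X : Over (Spec (CommRingCat.of k))) [IsAffine X.left] :
    Fn (G ⊗ X) →ₗ[k] Fn X :=
  (TensorProduct.lid k (Fn X)).toLinearMap ∘ₗ β.rTensor (Fn X) ∘ₗ (prodEquiv G X).symm.toLinearMap

theorem sl_prod (β : Fn G →ₗ[k] k) (g : Fn G) (y : Fn X) :
    sl β X (ev (fst G X) g * ev (snd G X) y) = β g • y := by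
  rw [← prodEquiv_tmul]
  simp [sl]

theorem induction_prod {motive : Fn (G ⊗ X) → Prop} (h0 : motive 0)
    (hm : ∀ g y, motive (ev (fst G X) g * ev (snd G X) y)) (ha : ∀ a b, motive a → motive b → motive (a + b))
    (z : Fn (G ⊗ X)) : motive z := by
  obtain ⟨t, rfl⟩ := (prodEquiv G X).surjective z
  induction t using TensorProduct.induction_on with
  | zero => rw [map_zero]; exact h0
  | tmul g y => rw [prodEquiv_tmul]; exact hm g y
  | add p q hp hq => rw [map_add]; exact ha _ _ hp hq

theorem sl_natural (β : Fn G →ₗ[k] k) (h : X' ⟶ X) (z : Fn (G ⊗ X)) :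
    sl β X' (ev (G ◁ h) z) = ev h (sl β X z) := by
  induction z using induction_prod with
  | h0 => simp only [map_zero]
  | hm g y =>
    rw [map_mul, ev_ev, ev_ev, whiskerLeft_fst, whiskerLeft_snd, ← ev_ev (snd G X') h, sl_prod, sl_prod, map_smul]
  | ha a b ha hb => simp only [map_add, ha, hb]

theorem sl_snd_mul (β : Fn G →ₗ[k] k) (y : Fn X) (z : Fn (G ⊗ X)) :
    sl β X (ev (snd G X) y * z) = y * sl β X z := by
  induction z using induction_prod with
  | h0 => simp only [mul_zero, map_zero]
  | hm g x =>
    rw [show ev (snd G X) y * (ev (fst G X) g * ev (snd G X) x) = ev (fst G X) g * ev (snd G X) (y * x) by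
      rw [map_mul]; ring, sl_prod, sl_prod, mul_smul_comm]
  | ha a b ha hb => simp only [mul_add, map_add, ha, hb]

theorem sl_snd {β : Fn G →ₗ[k] k} (h1 : β 1 = 1) (y : Fn X) : sl β X (ev (snd G X) y) = y := by
  have := sl_prod β (1 : Fn G) y
  rwa [map_one, _root_.one_mul, h1, one_smul] at this

variable [GrpObj G]

/-- A normalised invariant functional on the functions of the group. -/
structure IsInv (β : Fn G →ₗ[k] k) : Prop where
  map_one : β 1 = 1
  inv : ∀ g : Fn G, sl β G (ev μ[G] g) = β g • 1

variable (a : AlgGrp.Action G X)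

/-- The Reynolds operator. -/
noncomputable def reyn (β : Fn G →ₗ[k] k) : Fn X →ₗ[k] Fn X := sl β X ∘ₗ (ev a.act).toLinearMap

variable {a} {β : Fn G →ₗ[k] k}

theorem reyn_apply (f : Fn X) : reyn a β f = sl β X (ev a.act f) := rfl

theorem reyn_of_inv (hβ : IsInv β) {f : Fn X} (hf : ev a.act f = ev (snd G X) f) : reyn a β f = f := by
  rw [reyn_apply, hf, sl_snd hβ.map_one]

theorem reyn_inv_mul (hβ : IsInv β) {f : Fn X} (hf : ev a.act f = ev (snd G X) f) (r : Fn X) :
    reyn a β (f * r) = f * reyn a β r := by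
  rw [reyn_apply, map_mul, hf, sl_snd_mul]
  rfl

/-- The Reynolds operator lands in the invariant functions. -/
theorem ev_act_reyn (hβ : IsInv β) (f : Fn X) : ev a.act (reyn a β f) = ev (snd G X) (reyn a β f) := by
  haveI := isAffine_tensor G X
  rw [reyn_apply, ← sl_natural]
  let m : G ⊗ (G ⊗ X) ⟶ G ⊗ X := (α_ G G X).inv ≫ (μ[G] ▷ X)
  have hm : (G ◁ a.act) ≫ a.act = m ≫ a.act := by
    rw [Category.assoc, a.mul_act, Iso.inv_hom_id_assoc]
  rw [ev_ev, hm, ← ev_ev]
  induction ev a.act f using induction_prod with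
  | h0 => simp only [map_zero]
  | hm g y =>
    have h1 : m ≫ fst G X = (G ◁ fst G X) ≫ μ[G] := by
      rw [Category.assoc, whiskerRight_fst, ← Category.assoc]
      congr 1
      apply CartesianMonoidalCategory.hom_ext <;> simp
    have h2 : m ≫ snd G X = snd G (G ⊗ X) ≫ snd G X := by
      rw [Category.assoc, whiskerRight_snd]
      simp
    haveI : IsAffine G.left := inferInstance
    rw [map_mul, ev_ev, ev_ev, h1, h2, ← ev_ev (G ◁ fst G X), ← ev_ev (snd G (G ⊗ X)), _root_.mul_comm, sl_snd_mul,
      sl_natural, hβ.inv, map_smul, map_one, sl_prod, map_smul, mul_smul_comm, _root_.mul_one]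
  | ha p q hp hq => simp only [map_add, hp, hq]

/-- Functions vanishing on an invariant set are sent to functions vanishing on it. -/
theorem reyn_vanish [Smooth G.hom] {W : Set X.left}
    (hW : a.act.left.base '' ((snd G X).left.base ⁻¹' W) ⊆ W) {f : Fn X}
    (hf : ∀ w ∈ W, w ∉ X.left.basicOpen f) (w : X.left) (hw : w ∈ W) :
    w ∉ X.left.basicOpen (reyn a β f) := by
  let T : Over (Spec (CommRingCat.of k)) := Over.mk (X.left.fromSpecResidueField w ≫ X.hom)
  haveI : IsAffine T.left := inferInstanceAs (IsAffine (Spec _))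
  let x : T ⟶ X := Over.homMk (X.left.fromSpecResidueField w) rfl
  have hx : ∀ t : T.left, x.left.base t = w := fun t => Scheme.fromSpecResidueField_apply w t
  haveI : IsReduced (G ⊗ T).left := by
    haveI : Smooth (pullback.snd G.hom T.hom) := MorphismProperty.pullback_snd G.hom T.hom inferInstance
    let q : (G ⊗ T).left ⟶ Spec (CommRingCat.of (X.left.residueField w)) := pullback.snd G.hom T.hom
    haveI : Smooth q := ‹_›
    exact GrpSchLib.isReduced_of_smooth_field q
  have hz : ev (G ◁ x) (ev a.act f) = 0 := by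
    apply eq_zero_of_basicOpen_eq_bot
    rw [eq_bot_iff]
    intro p hp
    rw [ev_ev, ev_apply, ← Scheme.preimage_basicOpen_top] at hp
    refine (hf _ ?_ hp : False).elim
    apply hW
    refine ⟨(G ◁ x).left.base p, ?_, rfl⟩
    show ((G ◁ x).left ≫ (snd G X).left).base p ∈ W
    rw [← Over.comp_left, whiskerLeft_snd]
    show x.left.base _ ∈ W
    rw [hx]
    exact hw
  intro hmem
  have h0 : ev x (reyn a β f) = 0 := by
    rw [reyn_apply, ← sl_natural, hz, map_zero]
  let t : T.left := IsLocalRing.closedPoint (X.left.residueField w)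
  have : t ∈ x.left ⁻¹ᵁ X.left.basicOpen (reyn a β f) := by
    refine (?_ : x.left.base t ∈ (X.left.basicOpen (reyn a β f) : Set X.left))
    rw [hx]
    exact hmem
  rw [Scheme.preimage_basicOpen_top, ← ev_apply, h0, Scheme.basicOpen_zero] at this
  exact this

end Groth.Agent.GITAff
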