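/-
A reductive group in characteristic zero has a normalised invariant functional.
-/
import Groth.Agent.GITAff.Reynolds
import Groth.Agent.RedLR.Main
import Groth.Agent.GrpSchLib.LineVec
import Groth.Agent.ComodLib.Integral

set_option backward.isDefEq.respectTransparency false
set_option backward.isDefEq.respectTransparency.types false
set_option linter.style.haveILetI false

universe u

open CategoryTheory MonoidalCategory CartesianMonoidalCategory MonObj AlgebraicGeometry TensorProduct WithConv

namespace Groth.Agent.GITAff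

open GrpSchLib GrpSchLib.Kunneth GrpSchLib.AffineHopf GrpSchLib.LineVec

variable {k : Type u} [Field k]

theorem isAffine_of_isReductive {G : Over (Spec (CommRingCat.of k))} [GrpObj G] (hG : Red.IsReductive G) :
    IsAffine G.left := by
  haveI := hG.1
  exact isAffine_of_isAffineHom G.hom

/-- An invariant functional from an invariant integral. -/
theorem isInv_of_integral {A : Type u} [CommRing A] [HopfAlgebra k A] {G : Over (Spec (CommRingCat.of k))}
    [GrpObj G] [IsAffine G.left] (e : Grp.mk (sp k A) ≅ Grp.mk G) {α : A →ₗ[k] k}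
    (hα : ComodLib.IsIntegral k α) (h1 : α 1 = 1) : ∃ β : Fn G →ₗ[k] k, IsInv β := by
  let j : sp k A ≅ G := (Grp.forget _).mapIso e
  haveI : IsMonHom j.inv := e.inv.hom.isMonHom_hom
  haveI : IsMonHom j.hom := e.hom.hom.isMonHom_hom
  let β : Fn G →ₗ[k] k :=
    α ∘ₗ (toFn (k := k) (A := A)).symm.toLinearMap ∘ₗ (ev j.hom).toLinearMap
  have hβ : ∀ p : A, β (ev j.inv (toFn (k := k) p)) = α p := fun p => by
    show α ((toFn (k := k) (A := A)).symm (ev j.hom (ev j.inv (toFn (k := k) p)))) = α p
    rw [ev_ev, j.hom_inv_id, ev_id, AlgEquiv.symm_apply_apply]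
  refine ⟨β, ⟨?_, fun g => ?_⟩⟩
  · show α ((toFn (k := k) (A := A)).symm (ev j.hom 1)) = 1
    rw [map_one, map_one, h1]
  obtain ⟨a, rfl⟩ : ∃ a, ev j.inv (toFn (k := k) (A := A) a) = g :=
    ⟨(toFn (k := k) (A := A)).symm (ev j.hom g), by rw [AlgEquiv.apply_symm_apply, ev_ev, j.inv_hom_id, ev_id]⟩
  have hmu : ev μ[G] (ev j.inv (toFn (k := k) (A := A) a)) = fn ((fst G G ≫ j.inv) * (snd G G ≫ j.inv)) a := by
    rw [← MonObj.mul_comp, Hom.mul_def, lift_fst_snd, Category.id_comp]
    rfl
  rw [hmu, fn_mul, hβ]
  show sl β G ((toConv (fn (fst G G ≫ j.inv)) * toConv (fn (snd G G ≫ j.inv))) a) = α a • 1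
  rw [AlgHom.convMul_apply]
  have key : ∀ z : A ⊗[k] A, sl β G (Algebra.TensorProduct.lift (toConv (fn (fst G G ≫ j.inv))).ofConv
      (toConv (fn (snd G G ≫ j.inv))).ofConv (fun _ _ => .all _ _) z) =
        ev j.inv (toFn (k := k) (A := A) (TensorProduct.lid k A (α.rTensor A z))) := by
    intro z
    induction z using TensorProduct.induction_on with
    | zero => simp only [map_zero]
    | tmul p q =>
      rw [Algebra.TensorProduct.lift_tmul, LinearMap.rTensor_tmul,
        TensorProduct.lid_tmul, map_smul, map_smul, ← hβ p]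
      exact sl_prod β _ _
    | add p q hp hq => simp only [map_add, hp, hq]
  rw [key, hα a, TensorProduct.lid_tmul, map_smul, map_smul, map_one, map_one]

/-- Reductivity is invariant under isomorphisms of groups over any base. -/
theorem isReductive_congr {G G' : Over (Spec (CommRingCat.of k))} [GrpObj G] [GrpObj G']
    (e : Grp.mk G ≅ Grp.mk G') (h : Red.IsReductive G) : Red.IsReductive G' := by
  obtain ⟨haff, hsm, hred⟩ := h
  haveI := haff
  haveI := hsm
  let j : G ≅ G' := (Grp.forget _).mapIso e
  haveI : IsIso j.inv.left := ((Over.forget _).mapIso j).isIso_inv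
  refine ⟨?_, ?_, fun s => RedLR.isReductiveOver_congr ((Over.pullback (Red.geomPt s)).mapGrp.mapIso e) (hred s)⟩
  · rw [← Over.w j.inv]; infer_instance
  · rw [← Over.w j.inv]; infer_instance

/-- A reductive group in characteristic zero has a normalised invariant functional. -/
theorem exists_isInv [CharZero k] {G : Over (Spec (CommRingCat.of k))} [GrpObj G] [IsAffine G.left]
    (hG : Red.IsReductive G) : ∃ β : Fn G →ₗ[k] k, IsInv β := by
  obtain ⟨A, _, _, ⟨e⟩⟩ := exists_hopf G
  haveI := hG.2.1
  let j : sp k A ≅ G := (Grp.forget _).mapIso e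
  haveI : IsIso j.hom.left := ((Over.forget _).mapIso j).isIso_hom
  have hlft : LocallyOfFiniteType (sp k A).hom := by rw [← Over.w j.hom]; infer_instance
  haveI : Algebra.FiniteType k A :=
    RingHom.finiteType_algebraMap.mp ((HasRingHomProperty.Spec_iff (P := @LocallyOfFiniteType)).mp hlft)
  obtain ⟨α, hα, h1⟩ := ComodLib.exists_integral_of_isLinearlyReductive
    (RedLR.isLinearlyReductive_of_isReductive A (isReductive_congr e.symm hG))
  exact isInv_of_integral e hα h1

end Groth.Agent.GITAff
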