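/-
Points over a given one in invariant closed sets, for an affine invariant map whose functions are the invariants.
-/
import Groth.Agent.GITAff.Reynolds

set_option backward.isDefEq.respectTransparency false
set_option backward.isDefEq.respectTransparency.types false
set_option linter.style.haveILetI false

universe u

open CategoryTheory Limits MonoidalCategory CartesianMonoidalCategory MonObj AlgebraicGeometry

namespace Groth.Agent.GITAff

open GrpSchLib GrpSchLib.Kunneth

variable {k : Type u} [Field k] {G X Y : Over (Spec (CommRingCat.of k))} [GrpObj G]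

/-- The functions of `Y` are exactly the invariant functions of `X`. -/
structure FnQuot (a : AlgGrp.Action G X) (φ : X ⟶ Y) : Prop where
  inv : GIT.IsInvariant a φ
  inj : Function.Injective (ev φ)
  range : ∀ f : Fn X, ev a.act f = ev (snd G X) f → f ∈ Set.range (ev φ)

variable [IsAffine G.left] [IsAffine X.left] [IsAffine Y.left] {a : AlgGrp.Action G X} {φ : X ⟶ Y}
variable {β : Fn G →ₗ[k] k}

theorem ev_invariant (hi : GIT.IsInvariant a φ) (b : Fn Y) :
    ev a.act (ev φ b) = ev (snd G X) (ev φ b) := by
  rw [ev_ev, ev_ev, hi]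

theorem reyn_range (hβ : IsInv β) (h : FnQuot a φ) (f : Fn X) : ∃ b, ev φ b = reyn a β f :=
  h.range _ (ev_act_reyn hβ f)

/-- The points of an affine scheme as primes. -/
theorem toSpecΓ_mem_basicOpen {Z : Scheme.{u}} (z : Z) (f : Γ(Z, ⊤)) :
    f ∉ (Z.toSpecΓ.base z).asIdeal ↔ z ∈ Z.basicOpen f := by
  rw [← Scheme.toSpecΓ_preimage_basicOpen Z f]
  exact Iff.rfl

theorem toSpecΓ_comap {Z Z' : Scheme.{u}} (g : Z ⟶ Z') (z : Z) :
    Z'.toSpecΓ.base (g.base z) = PrimeSpectrum.comap g.appTop.hom (Z.toSpecΓ.base z) := by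
  rw [← Scheme.Hom.comp_apply, Scheme.toSpecΓ_naturality]
  rfl

/-- A point of the base adherent to the images of invariant closed sets lifts to their intersection. -/
theorem exists_over [Smooth G.hom] (hβ : IsInv β) (h : FnQuot a φ) {J : Type*} (W : J → Set X.left)
    (hc : ∀ i, IsClosed (W i)) (hW : ∀ i, a.act.left.base '' ((snd G X).left.base ⁻¹' W i) ⊆ W i)
    {y : Y.left} (hy : ∀ i, y ∈ closure (φ.left.base '' W i)) :
    ∃ x : X.left, (∀ i, x ∈ W i) ∧ φ.left.base x = y := by
  classical
  let q : Ideal (Fn Y) := (Y.left.toSpecΓ.base y).asIdeal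
  haveI hqp : q.IsPrime := (Y.left.toSpecΓ.base y).isPrime
  let I : J → Ideal (Fn X) := fun i =>
    PrimeSpectrum.vanishingIdeal (X.left.toSpecΓ.base '' W i)
  have hI : ∀ i f, f ∈ I i ↔ ∀ w ∈ W i, w ∉ X.left.basicOpen f := by
    intro i f
    rw [PrimeSpectrum.mem_vanishingIdeal]
    simp only [Set.forall_mem_image]
    exact forall₂_congr fun w _ => by rw [← toSpecΓ_mem_basicOpen, not_not]
  have hIq : ∀ i b, ev φ b ∈ I i → b ∈ q := by
    intro i b hb
    by_contra hbq
    have hyb : y ∈ Y.left.basicOpen b := (toSpecΓ_mem_basicOpen y b).mp hbq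
    obtain ⟨_, hz, w, hw, rfl⟩ := mem_closure_iff.mp (hy i) _ (Y.left.basicOpen b).isOpen hyb
    refine (hI i _).mp hb w hw ?_
    rw [ev_apply, ← Scheme.preimage_basicOpen_top]
    exact hz
  let K : Ideal (Fn X) := (⨆ i, I i) ⊔ q.map (ev φ)
  have hKq : ∀ r ∈ K, ∀ b, ev φ b = reyn a β r → b ∈ q := by
    intro r hr
    obtain ⟨r₁, hr₁, r₂, hr₂, rfl⟩ := Submodule.mem_sup.mp hr
    intro b hb
    obtain ⟨b₁, hb₁⟩ := reyn_range hβ h r₁
    obtain ⟨b₂, hb₂⟩ := reyn_range hβ h r₂
    have e : b = b₁ + b₂ := h.inj (by rw [hb, map_add, map_add, hb₁, hb₂])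
    have h1 : b₁ ∈ q := by
      clear hb e hb₂ hr
      induction hr₁ using Submodule.iSup_induction' generalizing b₁ with
      | mem i x hx =>
        exact hIq i b₁ (hb₁ ▸ (hI i _).mpr (reyn_vanish (hW i) ((hI i x).mp hx)))
      | zero =>
        rw [map_zero] at hb₁
        rw [h.inj (hb₁.trans (map_zero _).symm)]
        exact q.zero_mem
      | add x x' _ _ hx hx' =>
        obtain ⟨c, hc⟩ := reyn_range hβ h x
        obtain ⟨c', hc'⟩ := reyn_range hβ h x'
        rw [show b₁ = c + c' from h.inj (by rw [hb₁, map_add, map_add, hc, hc'])]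
        exact q.add_mem (hx c hc) (hx' c' hc')
    have h2 : b₂ ∈ q := by
      clear hb e hb₁ hr
      induction hr₂ using Submodule.span_induction generalizing b₂ with
      | mem x hx =>
        obtain ⟨c, hc, rfl⟩ := hx
        rw [reyn_of_inv hβ (ev_invariant h.inv c)] at hb₂
        rw [h.inj hb₂]
        exact hc
      | zero =>
        rw [map_zero] at hb₂
        rw [h.inj (hb₂.trans (map_zero _).symm)]
        exact q.zero_mem
      | add x x' _ _ hx hx' =>
        obtain ⟨c, hc⟩ := reyn_range hβ h x
        obtain ⟨c', hc'⟩ := reyn_range hβ h x'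
        rw [show b₂ = c + c' from h.inj (by rw [hb₂, map_add, map_add, hc, hc'])]
        exact q.add_mem (hx c hc) (hx' c' hc')
      | smul r x hx _ =>
        -- the reynolds image of `r * x` for `x` in the extended ideal
        have key : ∀ x ∈ Ideal.map (ev φ) q, ∀ r : Fn X, ∀ c, ev φ c = reyn a β (r * x) → c ∈ q := by
          intro x hx
          induction hx using Submodule.span_induction with
          | mem x hx =>
            obtain ⟨d, hd, rfl⟩ := hx
            intro r c hc
            obtain ⟨e', he'⟩ := reyn_range hβ h r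
            rw [_root_.mul_comm r, reyn_inv_mul hβ (ev_invariant h.inv d), ← he', ← map_mul] at hc
            rw [h.inj hc]
            exact q.mul_mem_right _ hd
          | zero =>
            intro r c hc
            rw [mul_zero, map_zero] at hc
            rw [h.inj (hc.trans (map_zero _).symm)]
            exact q.zero_mem
          | add x x' _ _ hx hx' =>
            intro r c hc
            obtain ⟨d, hd⟩ := reyn_range hβ h (r * x)
            obtain ⟨d', hd'⟩ := reyn_range hβ h (r * x')
            rw [show c = d + d' from h.inj (by rw [hc, mul_add, map_add, map_add, hd, hd'])]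
            exact q.add_mem (hx r d hd) (hx' r d' hd')
          | smul s x _ hx =>
            intro r c hc
            refine hx (r * s) c ?_
            rw [hc, smul_eq_mul, _root_.mul_assoc]
        exact key x hx r b₂ hb₂
    exact e ▸ q.add_mem h1 h2
  let M : Submonoid (Fn X) := q.primeCompl.map (ev φ)
  have hdis : Disjoint (K : Set (Fn X)) (M : Set (Fn X)) := by
    rw [Set.disjoint_left]
    rintro _ hr ⟨b, hb, rfl⟩
    exact hb (hKq _ hr b (reyn_of_inv hβ (ev_invariant h.inv b)).symm)
  obtain ⟨P, hP, hKP, hPM⟩ := Ideal.exists_le_prime_disjoint K M hdis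
  obtain ⟨x, hx⟩ : ∃ x : X.left, X.left.toSpecΓ.base x = ⟨P, hP⟩ :=
    X.left.toSpecΓ.homeomorph.surjective _
  refine ⟨x, fun i => ?_, ?_⟩
  · have h1 : X.left.toSpecΓ.base x ∈ PrimeSpectrum.zeroLocus (I i : Set (Fn X)) := by
      rw [hx]
      exact (le_iSup I i).trans (le_sup_left.trans hKP)
    have hcl : IsClosed (X.left.toSpecΓ.base '' W i) := X.left.toSpecΓ.homeomorph.isClosedMap _ (hc i)
    rw [PrimeSpectrum.zeroLocus_vanishingIdeal_eq_closure, hcl.closure_eq] at h1
    obtain ⟨w, hw, he⟩ := h1
    rwa [← X.left.toSpecΓ.homeomorph.injective he]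
  · apply Y.left.toSpecΓ.homeomorph.injective
    show Y.left.toSpecΓ.base (φ.left.base x) = Y.left.toSpecΓ.base y
    rw [toSpecΓ_comap, hx]
    apply PrimeSpectrum.ext
    refine le_antisymm (fun b hb => ?_) fun b hb => hKP (Submodule.mem_sup_right (Ideal.mem_map_of_mem _ hb))
    by_contra hbq
    exact Set.disjoint_left.mp hPM hb ⟨b, hbq, rfl⟩

end Groth.Agent.GITAff
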