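/-
Affine base change of a map whose functions are the invariant functions.
-/
import Groth.Agent.GITAff.Fibre
import Groth.Agent.GITQuot.BaseChange
import Mathlib.RingTheory.IsTensorProduct
import Mathlib.Algebra.Category.Ring.Constructions

set_option backward.isDefEq.respectTransparency false
set_option backward.isDefEq.respectTransparency.types false
set_option linter.style.haveILetI false

universe u

open CategoryTheory Limits MonoidalCategory CartesianMonoidalCategory MonObj AlgebraicGeometry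

namespace Groth.Agent.GITAff

open GrpSchLib GrpSchLib.Kunneth

variable {k : Type u} [Field k] {G X Y X' Y' : Over (Spec (CommRingCat.of k))} [GrpObj G]
  [IsAffine G.left] [IsAffine X.left] [IsAffine Y.left] [IsAffine X'.left] [IsAffine Y'.left]
  {a : AlgGrp.Action G X} {φ : X ⟶ Y} {a' : AlgGrp.Action G X'}
  {pr : X' ⟶ X} {φ' : X' ⟶ Y'} {g : Y' ⟶ Y} {β : Fn G →ₗ[k] k}

theorem reyn_pr (heq : a'.act ≫ pr = (G ◁ pr) ≫ a.act) (r : Fn X) :
    reyn a' β (ev pr r) = ev pr (reyn a β r) := by
  rw [reyn_apply, reyn_apply, ev_ev, heq, ← ev_ev, sl_natural]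

/-- Base change to an affine scheme preserves the property of having the invariants as functions. -/
theorem fnQuot_baseChange (hβ : IsInv β) (h : FnQuot a φ) (hpb : IsPullback pr φ' φ g)
    (heq : a'.act ≫ pr = (G ◁ pr) ≫ a.act) (hinv : GIT.IsInvariant a' φ') : FnQuot a' φ' := by
  letI : Algebra (Fn Y) (Fn X) := (ev φ).toRingHom.toAlgebra
  letI : Algebra (Fn Y) (Fn Y') := (ev g).toRingHom.toAlgebra
  letI : Algebra (Fn X) (Fn X') := (ev pr).toRingHom.toAlgebra
  letI : Algebra (Fn Y') (Fn X') := (ev φ').toRingHom.toAlgebra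
  letI : Algebra (Fn Y) (Fn X') := (ev (pr ≫ φ)).toRingHom.toAlgebra
  haveI : IsScalarTower (Fn Y) (Fn X) (Fn X') := .of_algebraMap_eq fun _ => rfl
  haveI : IsScalarTower (Fn Y) (Fn Y') (Fn X') := .of_algebraMap_eq fun b => by
    show ev (pr ≫ φ) b = ev φ' (ev g b)
    rw [ev_ev, hpb.w]
  have hpo := isPushout_appTop_of_isPullback (GITQuot.isPullback_left hpb)
  haveI : Algebra.IsPushout (Fn Y) (Fn Y') (Fn X) (Fn X') :=
    (CommRingCat.isPushout_iff_isPushout.mp hpo).symm
  have hbc : IsBaseChange (Fn Y') (IsScalarTower.toAlgHom (Fn Y) (Fn X) (Fn X')).toLinearMap :=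
    Algebra.IsPushout.out
  choose ρ hρ using reyn_range hβ h
  have hρadd : ∀ r s, ρ (r + s) = ρ r + ρ s := fun r s => h.inj (by rw [hρ, map_add, map_add, hρ, hρ])
  have hρsmul : ∀ (b : Fn Y) (r : Fn X), ρ (b • r) = b * ρ r := fun b r => h.inj (by
    rw [hρ, map_mul, hρ, Algebra.smul_def, show algebraMap (Fn Y) (Fn X) b = ev φ b from rfl,
      reyn_inv_mul hβ (ev_invariant h.inv b)])
  let ρ' : Fn X →ₗ[Fn Y] Fn Y' :=
    { toFun := fun r => ev g (ρ r)
      map_add' := fun r s => by rw [hρadd, map_add]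
      map_smul' := fun b r => by
        rw [hρsmul, map_mul, RingHom.id_apply, Algebra.smul_def]
        rfl }
  refine ⟨hinv, ?_, fun x hx => ?_⟩
  · have hρ1 : ρ' 1 = 1 := by
      have : ρ 1 = 1 := h.inj (by rw [hρ, reyn_of_inv hβ (by rw [map_one, map_one]), map_one])
      show ev g (ρ 1) = 1
      rw [this, map_one]
    have hL : ∀ c : Fn Y', hbc.lift ρ' (ev φ' c) = c := by
      intro c
      rw [show ev φ' c = c • (IsScalarTower.toAlgHom (Fn Y) (Fn X) (Fn X')).toLinearMap 1 by
        rw [Algebra.smul_def, AlgHom.toLinearMap_apply, map_one, _root_.mul_one]; rfl,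
        map_smul, hbc.lift_eq, hρ1, smul_eq_mul, _root_.mul_one]
    intro c c' hcc'
    rw [← hL c, hcc', hL]
  · rw [← reyn_of_inv hβ hx]
    clear hx
    induction x using hbc.inductionOn with
    | zero => exact ⟨0, by rw [map_zero, map_zero]⟩
    | tmul r =>
      refine ⟨ev g (ρ r), ?_⟩
      show _ = reyn a' β (ev pr r)
      rw [reyn_pr heq, ← hρ, ev_ev, ev_ev, hpb.w]
    | smul c z hz =>
      obtain ⟨d, hd⟩ := hz
      refine ⟨c * d, ?_⟩
      rw [Algebra.smul_def, show algebraMap (Fn Y') (Fn X') c = ev φ' c from rfl,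
        reyn_inv_mul hβ (ev_invariant hinv c), ← hd, map_mul]
    | add z z' hz hz' =>
      obtain ⟨d, hd⟩ := hz
      obtain ⟨d', hd'⟩ := hz'
      exact ⟨d + d', by rw [map_add, map_add, hd, hd']⟩

end Groth.Agent.GITAff
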