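/-
An action of an affine group on an affine scheme as a coaction; finite generation of the invariant functions.
-/
import Groth.Agent.GITAff.Reynolds
import Groth.Agent.GrpSchLib.LineVec
import Groth.Agent.GrpSchLib.Action
import Groth.Agent.ComodLib.Dual
import Groth.Agent.ComodLib.Antipode
import Groth.Agent.ComodLib.Invariants

set_option backward.isDefEq.respectTransparency false
set_option backward.isDefEq.respectTransparency.types false
set_option linter.style.haveILetI false

universe u

open CategoryTheory MonoidalCategory CartesianMonoidalCategory MonObj AlgebraicGeometry TensorProduct WithConv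

namespace Groth.Agent.GITAff

open GrpSchLib GrpSchLib.Kunneth GrpSchLib.AffineHopf GrpSchLib.LineVec

variable {k : Type u} [Field k] {A : Type u} [CommRing A] [HopfAlgebra k A]

/-- Functions on the product with an affine group. -/
noncomputable def tpEquiv (X : Over (Spec (CommRingCat.of k))) [IsAffine X.left] :
    (A ⊗[k] Fn X) ≃ₐ[k] Fn (sp k A ⊗ X) :=
  (Algebra.TensorProduct.congr (toFn (k := k) (A := A)) AlgEquiv.refl).trans
    (AlgEquiv.ofBijective (toProd (sp k A) X) (toProd_bijective (sp k A) X))

theorem tpEquiv_tmul (X : Over (Spec (CommRingCat.of k))) [IsAffine X.left] (p : A) (y : Fn X) :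
    tpEquiv X (p ⊗ₜ[k] y) = fn (fst (sp k A) X) p * ev (snd (sp k A) X) y := by
  show toProd (sp k A) X (toFn (k := k) p ⊗ₜ[k] y) = _
  exact Algebra.TensorProduct.lift_tmul _ _ (fun _ _ => .all _ _) _ _

variable {X : Over (Spec (CommRingCat.of k))} [IsAffine X.left] (a : AlgGrp.Action (sp k A) X)

/-- The left coaction on functions. -/
noncomputable def lcoactHom : Fn X →ₐ[k] A ⊗[k] Fn X := (tpEquiv X).symm.toAlgHom.comp (ev a.act)

theorem tpEquiv_lcoactHom (c : Fn X) : tpEquiv X (lcoactHom a c) = ev a.act c :=
  (tpEquiv X).apply_symm_apply _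

/-- An action as a left comodule structure on functions. -/
noncomputable def lcomod : ComodSub.LComod k A (Fn X) where
  coact := (lcoactHom a).toLinearMap
  coassoc := by
    haveI := isAffine_tensor (sp k A) X
    ext c
    let T : A ⊗[k] (A ⊗[k] Fn X) ≃ₐ[k] Fn (sp k A ⊗ (sp k A ⊗ X)) :=
      (Algebra.TensorProduct.congr AlgEquiv.refl (tpEquiv X)).trans (tpEquiv (sp k A ⊗ X))
    apply T.injective
    have hT : ∀ p w, T (p ⊗ₜ[k] w) =
        fn (fst (sp k A) (sp k A ⊗ X)) p * ev (snd (sp k A) (sp k A ⊗ X)) (tpEquiv X w) := fun p w => by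
      show tpEquiv (sp k A ⊗ X) (p ⊗ₜ[k] tpEquiv X w) = _
      exact tpEquiv_tmul _ _ _
    let m : sp k A ⊗ (sp k A ⊗ X) ⟶ sp k A ⊗ X := (α_ (sp k A) (sp k A) X).inv ≫ (μ[sp k A] ▷ X)
    have h1 : ∀ z : A ⊗[k] Fn X, T ((lcoactHom a).toLinearMap.lTensor A z) =
        ev (sp k A ◁ a.act) (tpEquiv X z) := fun z => by
      induction z using TensorProduct.induction_on with
      | zero => simp only [map_zero]
      | tmul p y =>
        rw [LinearMap.lTensor_tmul, AlgHom.toLinearMap_apply, hT, tpEquiv_lcoactHom, tpEquiv_tmul, map_mul, ev_ev,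
          ← whiskerLeft_snd, ← ev_ev]
        congr 1
        show fn _ p = ev _ (ev _ (toFn (k := k) p))
        rw [ev_ev, whiskerLeft_fst]
        rfl
      | add p q hp hq => simp only [map_add, hp, hq]
    have h2 : ∀ z : A ⊗[k] Fn X, T (TensorProduct.assoc k A A (Fn X)
        ((CoalgebraStruct.comul (R := k) (A := A)).rTensor (Fn X) z)) = ev m (tpEquiv X z) := fun z => by
      induction z using TensorProduct.induction_on with
      | zero => simp only [map_zero]
      | tmul p y =>
        have e1 : m ≫ fst (sp k A) X =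
            fst (sp k A) (sp k A ⊗ X) * (snd (sp k A) (sp k A ⊗ X) ≫ fst (sp k A) X) := by
          rw [Hom.mul_def, Category.assoc, whiskerRight_fst, ← Category.assoc]
          congr 1
          apply CartesianMonoidalCategory.hom_ext <;> simp
        have e2 : m ≫ snd (sp k A) X = snd (sp k A) (sp k A ⊗ X) ≫ snd (sp k A) X := by
          rw [Category.assoc, whiskerRight_snd]
          simp
        rw [LinearMap.rTensor_tmul, tpEquiv_tmul, map_mul, ev_ev, e2]
        rw [show ev m (fn (fst (sp k A) X) p) = fn (m ≫ fst (sp k A) X) p from rfl, e1, fn_mul]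
        show _ = (toConv (fn (fst (sp k A) (sp k A ⊗ X))) *
          toConv (fn (snd (sp k A) (sp k A ⊗ X) ≫ fst (sp k A) X))) p * _
        rw [AlgHom.convMul_apply]
        induction Coalgebra.comul (R := k) p using TensorProduct.induction_on with
        | zero => simp only [TensorProduct.zero_tmul, map_zero, MulZeroClass.zero_mul]
        | tmul q r =>
          rw [TensorProduct.assoc_tmul, hT, tpEquiv_tmul, map_mul, Algebra.TensorProduct.lift_tmul,
            ← _root_.mul_assoc]
          rfl
        | add u v hu hv => simp only [TensorProduct.add_tmul, map_add, hu, hv, add_mul]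
      | add p q hp hq => simp only [map_add, hp, hq]
    simp only [LinearMap.comp_apply, LinearEquiv.coe_coe]
    rw [h1, h2, AlgHom.toLinearMap_apply, tpEquiv_lcoactHom, ev_ev, ev_ev]
    congr 2
    rw [Category.assoc, a.mul_act, Iso.inv_hom_id_assoc]
  counit_comp := by
    ext c
    simp only [LinearMap.comp_apply, AlgHom.toLinearMap_apply, TensorProduct.mk_apply]
    apply (TensorProduct.lid k (Fn X)).injective
    rw [TensorProduct.lid_tmul, one_smul]
    let s : X ⟶ sp k A ⊗ X := lift 1 (𝟙 X)
    have h : ∀ z : A ⊗[k] Fn X, TensorProduct.lid k (Fn X)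
        ((CoalgebraStruct.counit (R := k) (A := A)).rTensor (Fn X) z) = ev s (tpEquiv X z) := fun z => by
      induction z using TensorProduct.induction_on with
      | zero => simp only [map_zero]
      | tmul p y =>
        rw [LinearMap.rTensor_tmul, TensorProduct.lid_tmul, tpEquiv_tmul, map_mul, ev_ev, lift_snd, ev_id,
          show ev s (fn (fst (sp k A) X) p) = fn (s ≫ fst (sp k A) X) p from rfl, lift_fst, fn_one, Algebra.smul_def]
        rfl
      | add p q hp hq => simp only [map_add, hp, hq]
    rw [h, tpEquiv_lcoactHom, ev_ev, GrpSchLib.act_one, ev_id]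

/-- The invariant functions of a linearly reductive group acting on an affine scheme of finite type
are finitely generated. -/
theorem fg_invariants {α : A →ₗ[k] k} (hα : ComodLib.IsIntegral k α) (h1 : α 1 = 1) [Algebra.FiniteType k (Fn X)] :
    (AlgHom.equalizer (ev a.act) (ev (snd (sp k A) X))).FG := by
  letI c : HopfRep.Comod k A (Fn X) := ComodLib.rightOfLeft (lcomod a)
  let ρ : Fn X →ₐ[k] Fn X ⊗[k] A := ((Algebra.TensorProduct.comm k A (Fn X)).toAlgHom.comp
    (Algebra.TensorProduct.map (HopfAlgebra.antipodeAlgHom k A) (AlgHom.id k (Fn X)))).comp (lcoactHom a)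
  have hρ : ∀ f, HopfRep.Comod.coact (k := k) (A := A) f = ρ f := fun f => by
    show ComodSub.rcoactOfLeft (lcomod a) f = _
    rw [ComodSub.rcoactOfLeft_apply]
    show _ = Algebra.TensorProduct.comm k A (Fn X)
      (Algebra.TensorProduct.map (HopfAlgebra.antipodeAlgHom k A) (AlgHom.id k (Fn X)) (lcoactHom a f))
    rfl
  haveI : GLin.IsCoactAlg k A (Fn X) :=
    ⟨by rw [hρ]; exact map_one ρ, fun f g => by rw [hρ, hρ, hρ]; exact map_mul ρ f g⟩
  obtain ⟨s, hs⟩ := ComodLib.exists_finset_invariants_adjoin (C := Fn X) hα h1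
  refine ⟨s, Eq.trans hs.symm ?_⟩
  ext f
  rw [GLin.mem_invariants_iff, AlgHom.mem_equalizer, hρ]
  constructor
  · intro h
    have h' : lcoactHom a f = 1 ⊗ₜ[k] f := by
      have e : ∀ z : A ⊗[k] Fn X, Algebra.TensorProduct.map (HopfAlgebra.antipodeAlgHom k A) (AlgHom.id k (Fn X))
          (Algebra.TensorProduct.map (HopfAlgebra.antipodeAlgHom k A) (AlgHom.id k (Fn X)) z) = z := fun z => by
        induction z using TensorProduct.induction_on with
        | zero => simp only [map_zero]
        | tmul p y =>
          rw [Algebra.TensorProduct.map_tmul, Algebra.TensorProduct.map_tmul]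
          exact congrArg (fun q => q ⊗ₜ[k] y) (ComodLib.antipode_antipode_apply p)
        | add p q hp hq => simp only [map_add, hp, hq]
      have h2 := (Algebra.TensorProduct.comm k A (Fn X)).injective
        (a₁ := _) (a₂ := (1 : A) ⊗ₜ[k] f) (h.trans (by rfl))
      rw [← e (lcoactHom a f)]
      refine (congrArg _ h2).trans ?_
      rw [Algebra.TensorProduct.map_tmul, map_one]
      rfl
    rw [← tpEquiv_lcoactHom a f, h', tpEquiv_tmul, map_one, _root_.one_mul]
  · intro h
    have h' : lcoactHom a f = 1 ⊗ₜ[k] f := (tpEquiv X).injective (by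
      rw [tpEquiv_lcoactHom, h, tpEquiv_tmul, map_one, _root_.one_mul])
    show Algebra.TensorProduct.comm k A (Fn X)
      (Algebra.TensorProduct.map (HopfAlgebra.antipodeAlgHom k A) (AlgHom.id k (Fn X)) (lcoactHom a f)) = _
    rw [h', Algebra.TensorProduct.map_tmul, map_one]
    rfl

end Groth.Agent.GITAff
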