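/-
The invariant quotient of an affine scheme is a universal categorical quotient and universally submersive.
-/
import Groth.Agent.GITAff.BaseChange
import Groth.Agent.GITQuot.Geom

set_option backward.isDefEq.respectTransparency false
set_option backward.isDefEq.respectTransparency.types false
set_option linter.style.haveILetI false

universe u

open CategoryTheory Limits MonoidalCategory CartesianMonoidalCategory MonObj AlgebraicGeometry Topology

namespace Groth.Agent.GITAff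

open GrpSchLib GrpSchLib.Kunneth

variable {k : Type u} [Field k] {G X Y X' Y' : Over (Spec (CommRingCat.of k))} [GrpObj G]
  [IsAffine G.left] [IsAffine X.left] [IsAffine Y.left]
  {a : AlgGrp.Action G X} {φ : X ⟶ Y} {a' : AlgGrp.Action G X'}
  {pr : X' ⟶ X} {φ' : X' ⟶ Y'} {g : Y' ⟶ Y} {β : Fn G →ₗ[k] k}

/-- Functions on the range of an open immersion are the functions on its source. -/
theorem bijective_appLE_opensRange {Z Z' : Scheme.{u}} (i : Z ⟶ Z') [IsOpenImmersion i] {V : Z'.Opens}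
    (hV : i.opensRange = V) (e : ⊤ ≤ i ⁻¹ᵁ V) : Function.Bijective (i.appLE V ⊤ e) := by
  subst hV
  have : i.appLE i.opensRange ⊤ e = i.app i.opensRange ≫
      Z.presheaf.map (eqToHom (i.preimage_opensRange).symm).op := by
    rw [Scheme.Hom.app_eq_appLE, Scheme.Hom.appLE_map]
  rw [this]
  haveI := i.isIso_app i.opensRange le_rfl
  exact ConcreteCategory.bijective_of_isIso _

section

variable (hβ : IsInv β) (h : FnQuot a φ) (hpb : IsPullback pr φ' φ g)
  (heq : a'.act ≫ pr = (G ◁ pr) ≫ a.act) (hinv : GIT.IsInvariant a' φ')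

include hβ h hpb heq hinv

/-- The affine pieces. -/
theorem exists_piece {V : Y'.left.Opens} (hV : IsAffineOpen V) :
    ∃ (XV YV : Over (Spec (CommRingCat.of k))) (_ : IsAffine XV.left) (_ : IsAffine YV.left)
      (eX : XV.left = (φ'.left ⁻¹ᵁ V).toScheme) (_ : YV.left = V.toScheme)
      (aV : AlgGrp.Action G XV) (φV : XV ⟶ YV) (j : XV ⟶ X') (i : YV ⟶ Y')
      (_ : IsOpenImmersion j.left) (_ : IsOpenImmersion i.left),
      FnQuot aV φV ∧ aV.act ≫ j = (G ◁ j) ≫ a'.act ∧ φV ≫ i = j ≫ φ' ∧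
      j.left.opensRange = φ'.left ⁻¹ᵁ V ∧ i.left.opensRange = V := by
  haveI : IsAffineHom φ'.left :=
    MorphismProperty.of_isPullback (P := @IsAffineHom) (GITQuot.isPullback_left hpb) inferInstance
  let YV : Over (Spec (CommRingCat.of k)) := Over.mk (V.ι ≫ Y'.hom)
  let XV : Over (Spec (CommRingCat.of k)) := Over.mk ((φ'.left ⁻¹ᵁ V).ι ≫ X'.hom)
  haveI : IsAffine YV.left := hV
  haveI : IsAffine XV.left := hV.preimage φ'.left
  let φV : XV ⟶ YV := Over.homMk (φ'.left ∣_ V) (by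
    show φ'.left ∣_ V ≫ V.ι ≫ Y'.hom = (φ'.left ⁻¹ᵁ V).ι ≫ X'.hom
    rw [morphismRestrict_ι_assoc, Over.w])
  let j : XV ⟶ X' := Over.homMk (φ'.left ⁻¹ᵁ V).ι rfl
  let i : YV ⟶ Y' := Over.homMk V.ι rfl
  have hsq : IsPullback j φV φ' i :=
    IsPullback.of_map (Over.forget _) (Over.OverMorphism.ext (morphismRestrict_ι φ'.left V).symm)
      (isPullback_morphismRestrict φ'.left V).flip
  obtain ⟨aV, heqV, hinvV⟩ := GITQuot.exists_action hinv hsq
  haveI : IsOpenImmersion j.left := inferInstanceAs (IsOpenImmersion (φ'.left ⁻¹ᵁ V).ι)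
  haveI : IsOpenImmersion i.left := inferInstanceAs (IsOpenImmersion V.ι)
  refine ⟨XV, YV, inferInstance, inferInstance, rfl, rfl, aV, φV, j, i, inferInstance, inferInstance,
    ?_, heqV, hsq.w.symm, ?_, ?_⟩
  rotate_left
  · exact Scheme.Opens.opensRange_ι (φ'.left ⁻¹ᵁ V)
  · exact Scheme.Opens.opensRange_ι V
  refine fnQuot_baseChange hβ h (hsq.paste_horiz hpb) ?_ hinvV
  rw [← Category.assoc, heqV, Category.assoc, heq, ← Category.assoc, ← MonoidalCategory.whiskerLeft_comp]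

theorem app_injective_affine {V : Y'.left.Opens} (hV : IsAffineOpen V) :
    Function.Injective (φ'.left.app V) := by
  obtain ⟨XV, YV, _, _, -, -, aV, φV, j, i, hj, hi, hq, -, hw, hjr, hir⟩ := exists_piece hβ h hpb heq hinv hV
  intro s t hst
  have e : (⊤ : XV.left.Opens) ≤ j.left ⁻¹ᵁ (φ'.left ⁻¹ᵁ V) := by
    rw [← hjr]; exact fun x _ => ⟨x, rfl⟩
  have eV : (⊤ : YV.left.Opens) ≤ i.left ⁻¹ᵁ V := by
    rw [← hir]; exact fun x _ => ⟨x, rfl⟩
  haveI := hi
  have hbij := bijective_appLE_opensRange i.left hir eV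
  apply hbij.1
  apply hq.inj
  have key : ∀ s, ev φV (i.left.appLE V ⊤ eV s) = j.left.appLE (φ'.left ⁻¹ᵁ V) ⊤ e (φ'.left.app V s) := by
    intro s
    have h1 : (φV ≫ i).left = (j ≫ φ').left := congrArg CommaMorphism.left hw
    rw [ev_apply, Scheme.Hom.app_eq_appLE φ'.left, ← CommRingCat.comp_apply, ← CommRingCat.comp_apply,
      Scheme.Hom.appTop, Scheme.Hom.app_eq_appLE φV.left, Scheme.Hom.appLE_comp_appLE,
      Scheme.Hom.appLE_comp_appLE]
    simp only [← Over.comp_left, h1]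
    rfl
  rw [key, key, hst]

theorem app_injective (U : Y'.left.Opens) : Function.Injective (φ'.left.app U) := by
  intro s t hst
  refine Y'.left.sheaf.eq_of_locally_eq' (fun V : {V : Y'.left.Opens // IsAffineOpen V ∧ V ≤ U} => V.1) U
    (fun V => homOfLE V.2.2) (fun y hy => ?_) s t fun V => ?_
  · obtain ⟨V, hV, hyV, hVU⟩ := exists_isAffineOpen_mem_and_subset (X := Y'.left) hy
    exact TopologicalSpace.Opens.mem_iSup.mpr ⟨⟨V, hV, hVU⟩, hyV⟩
  · apply app_injective_affine hβ h hpb heq hinv V.2.1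
    have e := φ'.left.naturality (homOfLE V.2.2).op
    exact ((congr($(e).hom s)).trans ((congrArg _ hst).trans (congr($(e).hom t)).symm) :)

theorem range_app_affine {V : Y'.left.Opens} (hV : IsAffineOpen V) {f : Γ(X'.left, φ'.left ⁻¹ᵁ V)}
    (hf : GIT.IsInvSection a' φ' V f) : f ∈ Set.range (φ'.left.app V) := by
  obtain ⟨XV, YV, _, _, -, -, aV, φV, j, i, hj, hi, hq, heqV, hw, hjr, hir⟩ := exists_piece hβ h hpb heq hinv hV
  have e : (⊤ : XV.left.Opens) ≤ j.left ⁻¹ᵁ (φ'.left ⁻¹ᵁ V) := by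
    rw [← hjr]; exact fun x _ => ⟨x, rfl⟩
  have eV : (⊤ : YV.left.Opens) ≤ i.left ⁻¹ᵁ V := by
    rw [← hir]; exact fun x _ => ⟨x, rfl⟩
  let x : Fn XV := j.left.appLE (φ'.left ⁻¹ᵁ V) ⊤ e f
  let W := a'.act.left ⁻¹ᵁ (φ'.left ⁻¹ᵁ V) ⊓ (snd G X').left ⁻¹ᵁ (φ'.left ⁻¹ᵁ V)
  have hl : (aV.act ≫ j).left = ((G ◁ j) ≫ a'.act).left := congrArg CommaMorphism.left heqV
  have hr : (snd G XV ≫ j).left = ((G ◁ j) ≫ snd G X').left :=
    congrArg CommaMorphism.left (whiskerLeft_snd G j).symm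
  have eW : (⊤ : (G ⊗ XV).left.Opens) ≤ (G ◁ j).left ⁻¹ᵁ W := fun p _ => by
    refine ⟨?_, ?_⟩
    · show ((G ◁ j) ≫ a'.act).left.base p ∈ φ'.left ⁻¹ᵁ V
      rw [← hl, ← hjr]
      exact ⟨_, rfl⟩
    · show ((G ◁ j) ≫ snd G X').left.base p ∈ φ'.left ⁻¹ᵁ V
      rw [← hr, ← hjr]
      exact ⟨_, rfl⟩
  have hx : ev aV.act x = ev (snd G XV) x := by
    have h1 : ∀ (p : G ⊗ XV ⟶ XV) (q : G ⊗ X' ⟶ X') (hpq : (p ≫ j).left = ((G ◁ j) ≫ q).left)
        (hq' : W ≤ q.left ⁻¹ᵁ (φ'.left ⁻¹ᵁ V)),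
        ev p x = (G ◁ j).left.appLE W ⊤ eW (q.left.appLE (φ'.left ⁻¹ᵁ V) W hq' f) := by
      intro p q hpq hq'
      rw [ev_apply, ← CommRingCat.comp_apply, ← CommRingCat.comp_apply, Scheme.Hom.appTop,
        Scheme.Hom.app_eq_appLE p.left, Scheme.Hom.appLE_comp_appLE, Scheme.Hom.appLE_comp_appLE]
      simp only [← Over.comp_left, hpq]
      rfl
    rw [h1 aV.act a'.act hl inf_le_left, h1 (snd G XV) (snd G X') hr inf_le_right]
    exact congrArg _ hf
  obtain ⟨b, hb⟩ := hq.range x hx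
  haveI := hi
  haveI := hj
  obtain ⟨t, rfl⟩ := (bijective_appLE_opensRange i.left hir eV).2 b
  refine ⟨t, (bijective_appLE_opensRange j.left hjr e).1 ?_⟩
  refine Eq.trans ?_ hb
  have h1 : (φV ≫ i).left = (j ≫ φ').left := congrArg CommaMorphism.left hw
  rw [ev_apply, Scheme.Hom.app_eq_appLE φ'.left, ← CommRingCat.comp_apply, ← CommRingCat.comp_apply,
    Scheme.Hom.appTop, Scheme.Hom.app_eq_appLE φV.left, Scheme.Hom.appLE_comp_appLE,
    Scheme.Hom.appLE_comp_appLE]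
  simp only [← Over.comp_left, h1]
  rfl


theorem range_app (U : Y'.left.Opens) :
    Set.range (φ'.left.app U) = {f | GIT.IsInvSection a' φ' U f} := by
  refine Set.Subset.antisymm ?_ fun f hf => ?_
  · rintro _ ⟨t, rfl⟩
    have h' := GITQuot.isInvSection_appLE (φ := φ') φ' hinv U U (le_refl (φ'.left ⁻¹ᵁ U)) t
    rwa [Scheme.Hom.appLE_eq_app] at h'
  let Idx := {V : Y'.left.Opens // IsAffineOpen V ∧ V ≤ U}
  have hinvV : ∀ V : Idx, GIT.IsInvSection a' φ' V.1
      (X'.left.presheaf.map (homOfLE (φ'.left.preimage_mono V.2.2)).op f) := by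
    intro V
    let W := a'.act.left ⁻¹ᵁ (φ'.left ⁻¹ᵁ U) ⊓ (snd G X').left ⁻¹ᵁ (φ'.left ⁻¹ᵁ U)
    let W' := a'.act.left ⁻¹ᵁ (φ'.left ⁻¹ᵁ V.1) ⊓ (snd G X').left ⁻¹ᵁ (φ'.left ⁻¹ᵁ V.1)
    have hWW : W' ≤ W := fun p hp => ⟨φ'.left.preimage_mono V.2.2 hp.1, φ'.left.preimage_mono V.2.2 hp.2⟩
    have key := congrArg (fun x => (G ⊗ X').left.presheaf.map (homOfLE hWW).op x) hf
    show a'.act.left.appLE _ _ _ _ = (snd G X').left.appLE _ _ _ _
    rw [← CommRingCat.comp_apply, ← CommRingCat.comp_apply, Scheme.Hom.map_appLE, Scheme.Hom.map_appLE]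
    have h1 : ∀ (q : (G ⊗ X').left ⟶ X'.left) (e : W ≤ q ⁻¹ᵁ (φ'.left ⁻¹ᵁ U)),
        (G ⊗ X').left.presheaf.map (homOfLE hWW).op (q.appLE (φ'.left ⁻¹ᵁ U) W e f) =
          q.appLE (φ'.left ⁻¹ᵁ U) W' (hWW.trans e) f := fun q e =>
      congr($(Scheme.Hom.appLE_map q e (homOfLE hWW).op).hom f)
    exact ((h1 a'.act.left inf_le_left).symm.trans key).trans (h1 (snd G X').left inf_le_right)
  choose t ht using fun V : Idx => range_app_affine hβ h hpb heq hinv V.2.1 (hinvV V)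
  have hcover : U ≤ iSup fun V : Idx => V.1 := fun y hy => by
    obtain ⟨V, hV, hyV, hVU⟩ := exists_isAffineOpen_mem_and_subset (X := Y'.left) hy
    exact TopologicalSpace.Opens.mem_iSup.mpr ⟨⟨V, hV, hVU⟩, hyV⟩
  have hnat : ∀ {V W : Y'.left.Opens} (e : W ≤ V) (s : Γ(Y'.left, V)),
      φ'.left.app W (Y'.left.presheaf.map (homOfLE e).op s) =
        X'.left.presheaf.map (homOfLE (φ'.left.preimage_mono e)).op (φ'.left.app V s) := fun e s =>
    congr($(φ'.left.naturality (homOfLE e).op).hom s)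
  obtain ⟨s, hs, -⟩ := Y'.left.sheaf.existsUnique_gluing' (fun V : Idx => V.1) U (fun V => homOfLE V.2.2) hcover t
    (fun V V' => by
      apply app_injective hβ h hpb heq hinv
      show φ'.left.app (V.1 ⊓ V'.1) (Y'.left.presheaf.map (homOfLE inf_le_left).op (t V)) =
        φ'.left.app (V.1 ⊓ V'.1) (Y'.left.presheaf.map (homOfLE inf_le_right).op (t V'))
      rw [hnat, hnat, ht, ht]
      simp only [← CommRingCat.comp_apply, ← Functor.map_comp]
      rfl)
  refine ⟨s, X'.left.sheaf.eq_of_locally_eq' (fun V : Idx => φ'.left ⁻¹ᵁ V.1) _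
    (fun V => homOfLE (φ'.left.preimage_mono V.2.2)) (fun x hx => ?_) _ _ fun V => ?_⟩
  · obtain ⟨V, hV⟩ := TopologicalSpace.Opens.mem_iSup.mp (hcover hx)
    exact TopologicalSpace.Opens.mem_iSup.mpr ⟨V, hV⟩
  · exact (hnat V.2.2 s).symm.trans ((congrArg (φ'.left.app V.1) (hs V)).trans (ht V))

/-- A point adherent to the images of invariant closed sets lifts to their intersection. -/
theorem exists_over_baseChange [Smooth G.hom] {J : Type*} (W : J → Set X'.left) (hc : ∀ i, IsClosed (W i))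
    (hW : ∀ i, a'.act.left.base '' ((snd G X').left.base ⁻¹' W i) ⊆ W i)
    {y : Y'.left} (hy : ∀ i, y ∈ closure (φ'.left.base '' W i)) :
    ∃ x : X'.left, (∀ i, x ∈ W i) ∧ φ'.left.base x = y := by
  obtain ⟨V, hV, hyV, -⟩ := exists_isAffineOpen_mem_and_subset (X := Y'.left) (U := ⊤) (x := y) trivial
  obtain ⟨XV, YV, _, _, -, -, aV, φV, j, i, hj, hi, hq, heqV, hw, hjr, hir⟩ := exists_piece hβ h hpb heq hinv hV
  haveI := hi
  obtain ⟨y', rfl⟩ : ∃ y', i.left.base y' = y := by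
    have : y ∈ i.left.opensRange := hir ▸ hyV
    exact this
  have hsq : ∀ x, i.left.base (φV.left.base x) = φ'.left.base (j.left.base x) := fun x => by
    rw [← Scheme.Hom.comp_apply, ← Scheme.Hom.comp_apply, ← Over.comp_left, ← Over.comp_left, hw]
  obtain ⟨x, hx, hxy⟩ := exists_over hβ hq (fun l => j.left.base ⁻¹' W l)
    (fun l => (hc l).preimage j.left.continuous) (fun l => by
      rintro _ ⟨p, hp, rfl⟩
      show j.left.base (aV.act.left.base p) ∈ W l
      rw [← Scheme.Hom.comp_apply, ← Over.comp_left, heqV]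
      refine hW l ⟨(G ◁ j).left.base p, ?_, rfl⟩
      show (snd G X').left.base ((G ◁ j).left.base p) ∈ W l
      rw [← Scheme.Hom.comp_apply, ← Over.comp_left, whiskerLeft_snd]
      exact hp) (y := y') fun l => by
      have h1 : i.left.base ⁻¹' (φ'.left.base '' W l) ⊆ φV.left.base '' (j.left.base ⁻¹' W l) := by
        rintro z ⟨x, hx, hxz⟩
        have hxV : x ∈ j.left.opensRange := by
          rw [hjr]
          show φ'.left.base x ∈ V
          rw [hxz, ← hir]
          exact ⟨z, rfl⟩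
        obtain ⟨x', rfl⟩ := hxV
        exact ⟨x', hx, i.left.isOpenEmbedding.injective ((hsq x').trans hxz)⟩
      refine closure_mono h1 ?_
      rw [← i.left.isOpenEmbedding.isOpenMap.preimage_closure_eq_closure_preimage i.left.continuous]
      exact hy l
  exact ⟨j.left.base x, hx, by rw [← hsq, hxy]⟩

theorem isCatQuot_baseChange [Smooth G.hom] : GIT.IsCatQuot a' φ' ∧ IsQuotientMap φ'.left.base := by
  refine GITQuot.isCatQuot_of_closed_images hinv
    (fun U => ⟨app_injective hβ h hpb heq hinv U, range_app hβ h hpb heq hinv U⟩)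
    (fun W hc hW => ?_) (fun J W hW => ?_)
  · refine isClosed_of_closure_subset fun y hy => ?_
    obtain ⟨x, hx, rfl⟩ := exists_over_baseChange hβ h hpb heq hinv (J := PUnit.{1}) (fun _ => W)
      (fun _ => hc) (fun _ => hW) fun _ => hy
    exact ⟨x, hx ⟨⟩, rfl⟩
  · refine Set.Subset.antisymm (Set.image_iInter_subset _ _) fun y hy => ?_
    obtain ⟨x, hx, rfl⟩ := exists_over_baseChange hβ h hpb heq hinv W (fun i => (hW i).1) (fun i => (hW i).2)
      fun i => subset_closure (Set.mem_iInter.mp hy i)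
    exact ⟨x, Set.mem_iInter.mpr hx, rfl⟩

end

/-- The invariant quotient is a universal categorical quotient, and universally submersive. -/
theorem isUnivCatQuot [Smooth G.hom] (hβ : IsInv β) (h : FnQuot a φ) :
    GIT.IsUnivCatQuot a φ ∧ GIT.IsUnivSubmersive φ.left := by
  refine ⟨⟨(isCatQuot_baseChange hβ h (IsPullback.of_horiz_isIso ⟨by simp⟩ : IsPullback (𝟙 X) φ φ (𝟙 Y))
      (by simp) h.inv).1, fun X' Y' pr φ' g _ hpb a' heq hinv =>
    (isCatQuot_baseChange hβ h hpb heq hinv).1⟩, ?_⟩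
  intro P T i₁ i₂ f' hsq'
  have hsq := hsq'.flip
  let Y' : Over (Spec (CommRingCat.of k)) := Over.mk (i₂ ≫ Y.hom)
  let X' : Over (Spec (CommRingCat.of k)) := Over.mk (i₁ ≫ X.hom)
  let g : Y' ⟶ Y := Over.homMk i₂ rfl
  let pr : X' ⟶ X := Over.homMk i₁ rfl
  let φ' : X' ⟶ Y' := Over.homMk f' (by
    show f' ≫ i₂ ≫ Y.hom = i₁ ≫ X.hom
    rw [← Category.assoc, ← hsq.w, Category.assoc, Over.w])
  have hpb : IsPullback pr φ' φ g := IsPullback.of_map (Over.forget _) (Over.OverMorphism.ext hsq.w) hsq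
  obtain ⟨a', heq, hinv⟩ := GITQuot.exists_action h.inv hpb
  exact (isCatQuot_baseChange hβ h hpb heq hinv).2

end Groth.Agent.GITAff
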