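/-
Closed orbits make the affine invariant quotient geometric.
-/
import Groth.Agent.GITAff.Global
import Groth.Agent.GITQuot.Orbit

set_option backward.isDefEq.respectTransparency false
set_option backward.isDefEq.respectTransparency.types false
set_option linter.style.haveILetI false

universe u

open CategoryTheory Limits MonoidalCategory CartesianMonoidalCategory MonObj AlgebraicGeometry Topology

namespace Groth.Agent.GITAff

open GrpSchLib GrpSchLib.Kunneth

variable {k : Type u} [Field k] {G X Y : Over (Spec (CommRingCat.of k))} [GrpObj G]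

theorem isPullback_fst_whiskerRight (φ : X ⟶ Y) (T : Over (Spec (CommRingCat.of k))) :
    IsPullback (fst X T) (φ ▷ T) φ (fst Y T) := by
  have hf : ∀ Z : Over (Spec (CommRingCat.of k)), IsPullback (fst Z T) (snd Z T) (toUnit Z) (toUnit T) := fun Z => by
    have h := IsPullback.of_is_product (C := Over (Spec (CommRingCat.of k))) (tensorProductIsBinaryProduct Z T)
      isTerminalTensorUnit
    have e1 : isTerminalTensorUnit.from Z = toUnit Z := toUnit_unique _ _
    have e2 : isTerminalTensorUnit.from T = toUnit T := toUnit_unique _ _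
    simpa [e1, e2] using h
  exact IsPullback.of_bot (by simpa using hf X) (by simp) (hf Y)

variable [IsAffine G.left] [IsAffine X.left] [IsAffine Y.left] [Smooth G.hom]
  {a : AlgGrp.Action G X} {φ : X ⟶ Y} {β : Fn G →ₗ[k] k}

/-- For a closed action the orbit map onto `X ×_Y X` is surjective. -/
theorem orbit_surjective (hβ : IsInv β) (h : FnQuot a φ) (hcl : GIT.IsClosedAction a) :
    Function.Surjective (GIT.PsiY a φ h.inv).base := by
  intro z
  let Ω := AlgebraicClosure ((pullback φ.left φ.left).residueField z)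
  let pt : Spec (CommRingCat.of Ω) ⟶ pullback φ.left φ.left :=
    Spec.map (CommRingCat.ofHom (algebraMap ((pullback φ.left φ.left).residueField z) Ω)) ≫ (pullback φ.left φ.left).fromSpecResidueField z
  have hpt : ∀ o, pt.base o = z := fun o => by
    rw [Scheme.Hom.comp_apply]
    exact Scheme.fromSpecResidueField_apply z _
  let T : Over (Spec (CommRingCat.of k)) := Over.mk (pt ≫ pullback.fst φ.left φ.left ≫ X.hom)
  haveI : IsAffine T.left := inferInstanceAs (IsAffine (Spec _))
  haveI : IsAffine (X ⊗ T).left := isAffine_tensor X T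
  haveI : IsAffine (Y ⊗ T).left := isAffine_tensor Y T
  let f₂ : T ⟶ X := Over.homMk (pt ≫ pullback.fst φ.left φ.left) (by simp [T])
  let f₁ : T ⟶ X := Over.homMk (pt ≫ pullback.snd φ.left φ.left) (by
    show (pt ≫ pullback.snd φ.left φ.left) ≫ X.hom = pt ≫ pullback.fst φ.left φ.left ≫ X.hom
    conv_lhs => rw [← Over.w φ, Category.assoc, ← pullback.condition_assoc, Over.w])
  have h12 : f₁ ≫ φ = f₂ ≫ φ := Over.OverMorphism.ext (by
    show (pt ≫ pullback.snd φ.left φ.left) ≫ φ.left = (pt ≫ pullback.fst φ.left φ.left) ≫ φ.left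
    simp only [Category.assoc, pullback.condition])
  have hsq := isPullback_fst_whiskerRight φ T
  obtain ⟨aT, heq, hinv⟩ := GITQuot.exists_action h.inv hsq
  have hqT : FnQuot aT (φ ▷ T) := fnQuot_baseChange hβ h hsq heq hinv
  let O : (T ⟶ X) → Set (X ⊗ T).left := fun f => Set.range (GIT.psi a f).left.base
  have hO : ∀ f, IsClosed (O f) := fun f => hcl Ω T (Iso.refl _) f
  have hOi : ∀ f, aT.act.left.base '' ((snd G (X ⊗ T)).left.base ⁻¹' O f) ⊆ O f := by
    rintro f _ ⟨q, ⟨g₀, hg₀⟩, rfl⟩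
    obtain ⟨r, hr, -⟩ := Scheme.exists_preimage_of_isPullback
      (GITQuot.isPullback_left (GITQuot.isPullback_tensorLeft (G := G) (GIT.psi a f))) q g₀ hg₀.symm
    have e : (G ◁ GIT.psi a f) ≫ aT.act = ((α_ G G T).inv ≫ (μ[G] ▷ T)) ≫ GIT.psi a f := by
      apply CartesianMonoidalCategory.hom_ext
      · rw [Category.assoc, heq, ← MonoidalCategory.whiskerLeft_comp_assoc, GIT.psi, lift_fst,
          MonoidalCategory.whiskerLeft_comp_assoc, Category.assoc, lift_fst, Category.assoc,
          ← whisker_exchange_assoc, a.mul_act, ← associator_inv_naturality_right_assoc, Iso.inv_hom_id_assoc]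
      · have h2 : aT.act ≫ snd X T = snd G (X ⊗ T) ≫ snd X T := by
          have h3 := congrArg (fun m => m ≫ snd Y T) hinv
          simpa only [Category.assoc, whiskerRight_snd] using h3
        rw [Category.assoc, h2, ← Category.assoc, whiskerLeft_snd, GIT.psi, Category.assoc, lift_snd, Category.assoc,
          lift_snd, Category.assoc, whiskerRight_snd]
        simp
    refine ⟨((α_ G G T).inv ≫ (μ[G] ▷ T)).left.base r, ?_⟩
    rw [← Scheme.Hom.comp_apply, ← Over.comp_left, ← e, ← hr]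
    rfl
  let o : T.left := IsLocalRing.closedPoint Ω
  let c : (Y ⊗ T).left := (lift (f₁ ≫ φ) (𝟙 T)).left.base o
  have hc : ∀ f, f ≫ φ = f₁ ≫ φ → c ∈ (φ ▷ T).left.base '' O f := fun f hf => by
    refine ⟨(GIT.psi a f).left.base ((lift 1 (𝟙 T) : T ⟶ G ⊗ T).left.base o), ⟨_, rfl⟩, ?_⟩
    have e1 : (lift 1 (𝟙 T) : T ⟶ G ⊗ T) ≫ GIT.psi a f ≫ (φ ▷ T) = lift (f₁ ≫ φ) (𝟙 T) := by
      rw [GITQuot.psi_comp h.inv f, ← Category.assoc, lift_snd, Category.id_comp, hf]
    show _ = (lift (f₁ ≫ φ) (𝟙 T)).left.base o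
    rw [← e1]
    rfl
  obtain ⟨w, hw, -⟩ := exists_over hβ hqT (fun b : Bool => O (cond b f₁ f₂)) (fun _ => hO _) (fun _ => hOi _)
    (y := c) fun b => subset_closure (hc _ (by cases b <;> [exact h12.symm; rfl]))
  obtain ⟨g₁, hg₁⟩ := hw true
  obtain ⟨g₂, hg₂⟩ := hw false
  obtain ⟨p, -, -⟩ := Scheme.Pullback.exists_preimage_pullback (f := (GIT.psi a f₁).left) (g := (GIT.psi a f₂).left)
    g₁ g₂ (hg₁.trans hg₂.symm)
  let P : Over (Spec (CommRingCat.of k)) :=
    Over.mk (pullback.fst (GIT.psi a f₁).left (GIT.psi a f₂).left ≫ (G ⊗ T).hom)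
  let q₁ : P ⟶ G ⊗ T := Over.homMk (pullback.fst (GIT.psi a f₁).left (GIT.psi a f₂).left) rfl
  let q₂ : P ⟶ G ⊗ T := Over.homMk (pullback.snd (GIT.psi a f₁).left (GIT.psi a f₂).left) (by
    show pullback.snd (GIT.psi a f₁).left (GIT.psi a f₂).left ≫ (G ⊗ T).hom = pullback.fst _ _ ≫ (G ⊗ T).hom
    conv_lhs => rw [← Over.w (GIT.psi a f₂), ← pullback.condition_assoc, Over.w])
  have hq : q₁ ≫ GIT.psi a f₁ = q₂ ≫ GIT.psi a f₂ := Over.OverMorphism.ext pullback.condition
  let u₁ := q₁ ≫ fst G T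
  let u₂ := q₂ ≫ fst G T
  let t := q₁ ≫ snd G T
  have ht : q₂ ≫ snd G T = t := by
    have := congrArg (fun m => m ≫ snd X T) hq
    simpa [GIT.psi] using this.symm
  have hact : lift u₁ (t ≫ f₁) ≫ a.act = lift u₂ (t ≫ f₂) ≫ a.act := by
    have := congrArg (fun m => m ≫ fst X T) hq
    simp only [GIT.psi, Category.assoc, lift_fst] at this
    have l1 : ∀ (q : P ⟶ G ⊗ T) (f : T ⟶ X), q ≫ (G ◁ f) = lift (q ≫ fst G T) ((q ≫ snd G T) ≫ f) := fun q f => by
      apply CartesianMonoidalCategory.hom_ext <;> simp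
    rw [← Category.assoc, ← Category.assoc, l1, l1, ht] at this
    exact this
  let w' : P ⟶ G ⊗ X := lift (u₂⁻¹ * u₁) (t ≫ f₁)
  have hw1 : w' ≫ a.act = t ≫ f₂ := by
    rw [← GrpSchLib.act_mul, hact, GrpSchLib.act_mul, inv_mul_cancel, GrpSchLib.act_one]
  refine ⟨w'.left.base p, ?_⟩
  have e : w'.left ≫ GIT.PsiY a φ h.inv = t.left ≫ pt := by
    apply pullback.hom_ext
    · rw [Category.assoc, GIT.PsiY, pullback.lift_fst, ← Over.comp_left, hw1, Category.assoc]
      rfl
    · rw [Category.assoc, GIT.PsiY, pullback.lift_snd, ← Over.comp_left, lift_snd, Category.assoc]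
      rfl
  rw [← Scheme.Hom.comp_apply, e, Scheme.Hom.comp_apply]
  exact hpt _

/-- For a closed action the invariant quotient is a universal geometric quotient. -/
theorem isUnivGeomQuot (hβ : IsInv β) (h : FnQuot a φ) (hcl : GIT.IsClosedAction a) : GIT.IsUnivGeomQuot a φ := by
  have ho := orbit_surjective hβ h hcl
  obtain ⟨-, hsub⟩ := isUnivCatQuot hβ h
  have key : ∀ ⦃X' Y' : Over (Spec (CommRingCat.of k))⦄ (pr : X' ⟶ X) (φ' : X' ⟶ Y') (g : Y' ⟶ Y),
      IsPullback pr φ' φ g → ∀ a' : AlgGrp.Action G X', a'.act ≫ pr = (G ◁ pr) ≫ a.act →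
        GIT.IsInvariant a' φ' → GIT.IsGeomQuot a' φ' := by
    intro X' Y' pr φ' g hpb a' heq hinv
    exact ⟨hinv, (isCatQuot_baseChange hβ h hpb heq hinv).2.surjective,
      GITQuot.orbit_baseChange h.inv ho hpb a' heq hinv,
      MorphismProperty.of_isPullback (P := (topologically @IsQuotientMap).universally)
        (GITQuot.isPullback_left hpb) hsub,
      fun U => ⟨app_injective hβ h hpb heq hinv U, range_app hβ h hpb heq hinv U⟩⟩
  exact ⟨key (𝟙 X) φ (𝟙 Y) (IsPullback.of_horiz_isIso ⟨by simp⟩) a (by simp) h.inv,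
    fun X' Y' pr φ' g _ hpb a' heq hinv => key pr φ' g hpb a' heq hinv⟩

end Groth.Agent.GITAff
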