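/-
The affine invariant quotient: existence, noetherianity and finite type.
-/
import Groth.Agent.GITAff.Global
import Groth.Agent.GITAff.Beta
import Groth.Agent.GITAff.Coact

set_option backward.isDefEq.respectTransparency false
set_option backward.isDefEq.respectTransparency.types false
set_option linter.style.haveILetI false

universe u

open CategoryTheory MonoidalCategory CartesianMonoidalCategory MonObj AlgebraicGeometry WithConv

namespace Groth.Agent.GITAff

open GrpSchLib GrpSchLib.Kunneth GrpSchLib.AffineHopf GrpSchLib.LineVec GrpSchLib.LineGroups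

variable {k : Type u} [Field k] {G X : Over (Spec (CommRingCat.of k))} [GrpObj G] (a : AlgGrp.Action G X)

/-- The algebra of invariant functions. -/
noncomputable abbrev invFn : Subalgebra k (Fn X) := AlgHom.equalizer (ev a.act) (ev (snd G X))

/-- The affine quotient. -/
noncomputable abbrev quot : Over (Spec (CommRingCat.of k)) := sp k (invFn a)

/-- The quotient map. -/
noncomputable def quotMap : X ⟶ quot a := aff X ≫ spMap (invFn a).val

theorem ev_quotMap (b : invFn a) : ev (quotMap a) (spEquiv (k := k) (invFn a) b) = (b : Fn X) := by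
  show (X.left.toSpecΓ ≫ Spec.map (CommRingCat.ofHom (invFn a).val.toRingHom)).appTop
    ((Scheme.ΓSpecIso (CommRingCat.of (invFn a))).inv b) = (invFn a).val b
  rw [Scheme.Hom.comp_appTop, Scheme.toSpecΓ_appTop, ← CommRingCat.comp_apply, ← Category.assoc,
    ← Scheme.ΓSpecIso_inv_naturality, Category.assoc, Iso.inv_hom_id, Category.comp_id]
  rfl

instance : IsAffine (quot a).left := isAffine_Spec _

theorem fnQuot_quotMap : FnQuot a (quotMap a) := by
  have hs : ∀ y : Fn (quot a), ∃ b, spEquiv (k := k) (invFn a) b = y := (spEquiv (k := k) (invFn a)).surjective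
  refine ⟨?_, fun y y' h => ?_, fun f hf => ?_⟩
  · refine ext_ev (AlgHom.ext fun y => ?_)
    obtain ⟨b, rfl⟩ := hs y
    rw [← ev_ev, ← ev_ev, ev_quotMap]
    exact b.2
  · obtain ⟨b, rfl⟩ := hs y
    obtain ⟨b', rfl⟩ := hs y'
    rw [ev_quotMap, ev_quotMap] at h
    exact congrArg _ (Subtype.ext h)
  · exact ⟨spEquiv (k := k) (invFn a) ⟨f, hf⟩, ev_quotMap a _⟩

variable [IsAffine G.left] [IsAffine X.left] {β : Fn G →ₗ[k] k}

theorem isNoetherianRing_invFn (hβ : IsInv β) [IsNoetherianRing (Fn X)] : IsNoetherianRing (invFn a) := by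
  let F : Ideal (invFn a) → Ideal (Fn X) := fun J => J.map (invFn a).val.toRingHom
  have hF : ∀ J : Ideal (invFn a), ∀ x ∈ F J, ∀ r : Fn X, ∃ j ∈ J, (j : Fn X) = reyn a β (r * x) := by
    intro J x hx
    induction hx using Submodule.span_induction with
    | mem x hx =>
      obtain ⟨d, hd, rfl⟩ := hx
      intro r
      refine ⟨d * ⟨reyn a β r, ev_act_reyn hβ r⟩, J.mul_mem_right _ hd, ?_⟩
      rw [_root_.mul_comm r]
      exact (reyn_inv_mul hβ d.2 r).symm
    | zero => exact fun r => ⟨0, J.zero_mem, by rw [mul_zero, map_zero]; rfl⟩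
    | add x y _ _ hx hy =>
      intro r
      obtain ⟨j, hj, ej⟩ := hx r
      obtain ⟨j', hj', ej'⟩ := hy r
      exact ⟨j + j', J.add_mem hj hj', by rw [mul_add, map_add, ← ej, ← ej']; rfl⟩
    | smul s x _ hx =>
      intro r
      obtain ⟨j, hj, ej⟩ := hx (r * s)
      exact ⟨j, hj, by rw [ej, smul_eq_mul, _root_.mul_assoc]⟩
  have hinj : Function.Injective F := by
    have h1 : ∀ J J' : Ideal (invFn a), F J ≤ F J' → J ≤ J' := fun J J' h b hb => by
      obtain ⟨j, hj, ej⟩ := hF J' _ (h (Ideal.mem_map_of_mem _ hb)) 1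
      rw [_root_.one_mul] at ej
      have : j = b := Subtype.ext (ej.trans (reyn_of_inv hβ b.2))
      exact this ▸ hj
    exact fun J J' h => le_antisymm (h1 _ _ h.le) (h1 _ _ h.ge)
  have hmono : StrictMono F :=
    (show Monotone F from fun J J' h => Ideal.map_mono h).strictMono_of_injective hinj
  haveI : WellFoundedGT (Ideal (invFn a)) := hmono.wellFoundedGT
  exact isNoetherianRing_iff.mpr (isNoetherian_iff'.mpr ‹_›)

theorem isNoetherian_quot (hβ : IsInv β) [IsNoetherian X.left] : IsNoetherian (quot a).left := by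
  haveI : IsNoetherianRing (Fn X) := IsLocallyNoetherian.component_noetherian ⟨⊤, isAffineOpen_top X.left⟩
  haveI := isNoetherianRing_invFn a hβ
  exact inferInstanceAs (IsNoetherian (Spec (CommRingCat.of (invFn a))))

theorem locallyOfFiniteType_quot [CharZero k] (hG : Red.IsReductive G) [LocallyOfFiniteType X.hom] :
    LocallyOfFiniteType (quot a).hom := by
  have hX : Algebra.FiniteType k (Fn X) := by
    refine RingHom.finiteType_algebraMap.mp ?_
    have h := (HasRingHomProperty.iff_of_isAffine (P := @LocallyOfFiniteType)).mp ‹LocallyOfFiniteType X.hom›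
    exact RingHom.FiniteType.comp (g := X.hom.appTop.hom) (f := (Scheme.ΓSpecIso (CommRingCat.of k)).inv.hom) h
      (RingHom.FiniteType.of_surjective _
        (ConcreteCategory.bijective_of_isIso (Scheme.ΓSpecIso (CommRingCat.of k)).inv).2)
  obtain ⟨A, _, _, ⟨e⟩⟩ := exists_hopf G
  haveI := hG.2.1
  let j : sp k A ≅ G := (Grp.forget _).mapIso e
  haveI : IsMonHom j.hom := e.hom.hom.isMonHom_hom
  haveI : IsIso j.hom.left := ((Over.forget _).mapIso j).isIso_hom
  have hlft : LocallyOfFiniteType (sp k A).hom := by rw [← Over.w j.hom]; infer_instance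
  haveI : Algebra.FiniteType k A :=
    RingHom.finiteType_algebraMap.mp ((HasRingHomProperty.Spec_iff (P := @LocallyOfFiniteType)).mp hlft)
  obtain ⟨α, hα, h1⟩ := ComodLib.exists_integral_of_isLinearlyReductive
    (RedLR.isLinearlyReductive_of_isReductive A (isReductive_congr e.symm hG))
  let aA : AlgGrp.Action (sp k A) X :=
    { act := (j.hom ▷ X) ≫ a.act
      one_act := by
        rw [← Category.assoc, ← comp_whiskerRight, IsMonHom.one_hom, a.one_act]
      mul_act := by
        rw [← Category.assoc, ← comp_whiskerRight, IsMonHom.mul_hom, comp_whiskerRight, Category.assoc, a.mul_act,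
          ← Category.assoc, ← Category.assoc]
        simp only [Category.assoc, MonoidalCategory.whiskerLeft_comp, MonoidalCategory.tensorHom_def, comp_whiskerRight,
          whisker_exchange_assoc, associator_naturality_left_assoc, associator_naturality_middle_assoc] }
  have heq : invFn aA = invFn a := by
    ext f
    rw [AlgHom.mem_equalizer, AlgHom.mem_equalizer]
    have e1 : ev aA.act f = ev (j.hom ▷ X) (ev a.act f) := (ev_ev _ _ _).symm
    have e2 : ev (snd (sp k A) X) f = ev (j.hom ▷ X) (ev (snd G X) f) := by rw [ev_ev, whiskerRight_snd]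
    rw [e1, e2]
    refine ⟨fun h => ?_, congrArg _⟩
    have h' := congrArg (ev (j.inv ▷ X)) h
    rwa [ev_ev (j.inv ▷ X), ev_ev (j.inv ▷ X), ← comp_whiskerRight, j.inv_hom_id, id_whiskerRight, ev_id, ev_id] at h'
  have hfg : (invFn a).FG := heq ▸ fg_invariants aA hα h1
  exact (HasRingHomProperty.Spec_iff (P := @LocallyOfFiniteType)).mpr
    (RingHom.finiteType_algebraMap.mpr ((invFn a).fg_iff_finiteType.mp hfg))

omit [IsAffine G.left] in
theorem fnQuot_of_iso {Y Y' : Over (Spec (CommRingCat.of k))} {φ : X ⟶ Y} {φ' : X ⟶ Y'} (e : Y ≅ Y')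
    (he : φ ≫ e.hom = φ') (h : FnQuot a φ) : FnQuot a φ' := by
  subst he
  refine ⟨?_, fun y y' hy => ?_, fun f hf => ?_⟩
  · show a.act ≫ φ ≫ e.hom = snd G X ≫ φ ≫ e.hom
    rw [← Category.assoc, h.inv, Category.assoc]
  · rw [← ev_ev, ← ev_ev] at hy
    have h' := congrArg (ev e.inv) (h.inj hy)
    rwa [ev_ev, ev_ev, e.inv_hom_id, ev_id, ev_id] at h'
  · obtain ⟨b, hb⟩ := h.range f hf
    refine ⟨ev e.inv b, ?_⟩
    rw [ev_ev, Category.assoc, e.hom_inv_id, Category.comp_id, hb]

/-- A categorical quotient of an affine scheme is the invariant quotient. -/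
theorem fnQuot_of_isCatQuot [Smooth G.hom] (hβ : IsInv β) {Y : Over (Spec (CommRingCat.of k))} (φ : X ⟶ Y)
    (hq : GIT.IsCatQuot a φ) : IsAffine Y.left ∧ FnQuot a φ := by
  have h₀ := fnQuot_quotMap a
  have hc : GIT.IsCatQuot a (quotMap a) := (isUnivCatQuot hβ h₀).1.1
  obtain ⟨χ, hχ, -⟩ := hc.2 Y φ hq.1
  obtain ⟨χ', hχ', -⟩ := hq.2 _ _ h₀.inv
  have e1 : χ ≫ χ' = 𝟙 (quot a) :=
    (hc.2 _ _ h₀.inv).unique (by rw [← Category.assoc, hχ, hχ']) (Category.comp_id _)
  have e2 : χ' ≫ χ = 𝟙 Y := (hq.2 _ _ hq.1).unique (by rw [← Category.assoc, hχ', hχ]) (Category.comp_id _)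
  let e : quot a ≅ Y := ⟨χ, χ', e1, e2⟩
  haveI : IsIso χ'.left := ((Over.forget _).mapIso e).isIso_inv
  exact ⟨IsAffine.of_isIso χ'.left, fnQuot_of_iso a e hχ h₀⟩

variable {a} in
/-- Disjoint invariant closed sets are separated by an invariant function. -/
theorem exists_separating [Smooth G.hom] (hβ : IsInv β) {Y : Over (Spec (CommRingCat.of k))} [IsAffine Y.left]
    {φ : X ⟶ Y} (h : FnQuot a φ) (W₁ W₂ : Set X.left) (h₁ : IsClosed W₁) (h₂ : IsClosed W₂)
    (hi₁ : a.act.left.base '' ((snd G X).left.base ⁻¹' W₁) ⊆ W₁)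
    (hi₂ : a.act.left.base '' ((snd G X).left.base ⁻¹' W₂) ⊆ W₂) (hd : Disjoint W₁ W₂) :
    ∃ f : Γ(X.left, ⊤), a.act.left.appTop f = (snd G X).left.appTop f ∧
      W₁ ⊆ X.left.zeroLocus (U := ⊤) {f} ∧ W₂ ⊆ X.left.zeroLocus (U := ⊤) {1 - f} := by
  let Z : Set X.left → Set (PrimeSpectrum (Fn Y)) := fun W => Y.left.toSpecΓ.base '' closure (φ.left.base '' W)
  have hZ : ∀ W, IsClosed (Z W) := fun W => Y.left.toSpecΓ.homeomorph.isClosedMap _ isClosed_closure
  let I : Set X.left → Ideal (Fn Y) := fun W => PrimeSpectrum.vanishingIdeal (Z W)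
  have htop : I W₁ ⊔ I W₂ = ⊤ := by
    rw [← PrimeSpectrum.zeroLocus_empty_iff_eq_top, PrimeSpectrum.zeroLocus_sup,
      PrimeSpectrum.zeroLocus_vanishingIdeal_eq_closure, PrimeSpectrum.zeroLocus_vanishingIdeal_eq_closure,
      (hZ W₁).closure_eq, (hZ W₂).closure_eq]
    refine Set.eq_empty_of_forall_notMem ?_
    rintro _ ⟨⟨y, hy₁, rfl⟩, ⟨y', hy₂, he⟩⟩
    obtain rfl := Y.left.toSpecΓ.homeomorph.injective he
    obtain ⟨x, hx, -⟩ := exists_over hβ h (fun b : Bool => cond b W₁ W₂) (fun b => by cases b <;> assumption)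
      (fun b => by cases b <;> assumption) (y := y') (fun b => by cases b <;> assumption)
    exact Set.disjoint_left.mp hd (hx true) (hx false)
  obtain ⟨b, hb, c, hc, hbc⟩ := Submodule.mem_sup.mp ((Ideal.eq_top_iff_one _).mp htop)
  have hvan : ∀ (W : Set X.left) (d : Fn Y), d ∈ I W → W ⊆ X.left.zeroLocus (U := ⊤) {ev φ d} := by
    intro W d hd w hw
    rw [Scheme.mem_zeroLocus_iff]
    rintro _ rfl hmem
    rw [ev_apply, ← Scheme.preimage_basicOpen_top] at hmem
    exact (toSpecΓ_mem_basicOpen _ d).mpr hmem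
      ((PrimeSpectrum.mem_vanishingIdeal _ _).mp hd _ ⟨_, subset_closure ⟨w, hw, rfl⟩, rfl⟩)
  refine ⟨ev φ b, ev_invariant h.inv b, hvan W₁ b hb, ?_⟩
  have e : (1 : Fn X) - ev φ b = ev φ c := by
    rw [sub_eq_iff_eq_add', ← map_add, hbc, map_one]
  exact e ▸ hvan W₂ c hc

end Groth.Agent.GITAff
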